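import Groth.Agent.ReflexLib.Criterion
import Groth.Agent.NormalLib.NormalRing

/-!
# Reflexive modules over normal domains
-/

set_option autoImplicit false
set_option linter.style.haveILetI false
set_option linter.unusedSectionVars false

universe u

open IsLocalRing

namespace ReflexLib

variable {A : Type u} [CommRing A] [IsNoetherianRing A] [IsDomain A] [IsIntegrallyClosed A]
  {M : Type u} [AddCommGroup M] [Module A M] [Module.Finite A M]

/-- Depth at least `min(2, dim)` everywhere gives reflexivity. -/
theorem isReflexive_of_min_two_le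
    (h : ∀ (p : Ideal A) [p.IsPrime], min (2 : WithBot ℕ∞) (ringKrullDim (Localization.AtPrime p)) ≤
      ((LocCoh.depth (Localization.AtPrime p) (LocalizedModule p.primeCompl M) : ℕ∞) : WithBot ℕ∞)) :
    Module.IsReflexive A M := by
  refine isReflexive_of_forall_or_depth fun p _ => ?_
  have hp := h p
  rw [IsLocalization.AtPrime.ringKrullDim_eq_height p (Localization.AtPrime p)] at hp
  by_cases h2 : 2 ≤ p.height
  · refine Or.inr (WithBot.coe_le_coe.1 (le_trans ?_ hp))
    exact le_min le_rfl (WithBot.coe_le_coe.2 h2)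
  refine Or.inl ((reflOn_iff p).1 ?_)
  haveI : IsNoetherianRing (Localization.AtPrime p) := IsLocalization.isNoetherianRing p.primeCompl _ ‹_›
  haveI : IsDomain (Localization.AtPrime p) :=
    IsLocalization.isDomain_localization p.primeCompl_le_nonZeroDivisors
  haveI : IsIntegrallyClosed (Localization.AtPrime p) :=
    isIntegrallyClosed_of_isLocalization _ p.primeCompl p.primeCompl_le_nonZeroDivisors
  haveI : Module.Finite (Localization.AtPrime p) (LocalizedModule p.primeCompl M) :=
    Module.Finite.of_isLocalizedModule p.primeCompl (LocalizedModule.mkLinearMap p.primeCompl M)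
  have h1 : p.height ≤ 1 := Order.le_of_lt_add_one (not_le.1 h2)
  haveI : Ring.KrullDimLE 1 (Localization.AtPrime p) := by
    rw [Ring.krullDimLE_iff, IsLocalization.AtPrime.ringKrullDim_eq_height p (Localization.AtPrime p)]
    exact_mod_cast h1
  haveI : Module.IsTorsionFree (Localization.AtPrime p) (LocalizedModule p.primeCompl M) := by
    refine ⟨fun r hr => ?_⟩
    by_contra hreg
    have hc : r ∈ {r : Localization.AtPrime p | IsSMulRegular (LocalizedModule p.primeCompl M) r}ᶜ := hreg
    rw [← biUnion_associatedPrimes_eq_compl_regular] at hc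
    obtain ⟨Q, hQ, hrQ⟩ := Set.mem_iUnion₂.1 hc
    haveI := hQ.isPrime
    have hQ0 : Q ≠ ⊥ := fun e => hr.ne_zero (Ideal.mem_bot.1 (e ▸ hrQ))
    have hQm : Q = maximalIdeal _ := eq_maximalIdeal (Ideal.IsPrime.isMaximal_of_ne_bot ‹_› hQ0)
    have hpos : 1 ≤ p.height := by
      refine ENat.one_le_iff_ne_zero.2 fun h0 => hQ0 (hQm.trans ?_)
      haveI : Ring.KrullDimLE 0 (Localization.AtPrime p) := by
        rw [Ring.krullDimLE_iff, IsLocalization.AtPrime.ringKrullDim_eq_height p (Localization.AtPrime p), h0]
        rfl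
      exact isField_iff_maximalIdeal_eq.1 Ring.KrullDimLE.isField_of_isReduced
    have hd : (1 : ℕ∞) ≤ LocCoh.depth (Localization.AtPrime p) (LocalizedModule p.primeCompl M) :=
      WithBot.coe_le_coe.1 (le_trans (le_min (WithBot.coe_le_coe.2 one_le_two) (WithBot.coe_le_coe.2 hpos)) hp)
    exact (CommAlgDim.hasSeqIn_one_iff _).1 ((CommAlgDim.le_depth_iff 1).1 hd) Q hQ (le_of_eq hQm.symm)
  exact isReflexive_of_dim_le_one _

/-- `(S₂)` and torsion-free gives reflexive. -/
theorem isReflexive_of_hasSk [NoZeroSMulDivisors A M] (h : LocCoh.HasSk 2 A M) : Module.IsReflexive A M := by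
  refine isReflexive_of_min_two_le fun p _ => ?_
  by_cases hp : Nontrivial (LocalizedModule p.primeCompl M)
  · refine le_trans (min_le_min_left _ ?_) (h p)
    haveI : Nontrivial M := not_subsingleton_iff_nontrivial.1 fun hs =>
      not_subsingleton_iff_nontrivial.2 hp inferInstance
    have hall : ∀ q, q ∈ Module.support (Localization.AtPrime p) (LocalizedModule p.primeCompl M) := fun q => by
      rw [DepthTwoLib.mem_support_localized_iff, Module.mem_support_iff']
      obtain ⟨m, hm⟩ := exists_ne (0 : M)
      exact ⟨m, fun r hr hrm => hr ((smul_eq_zero.1 hrm).resolve_right hm ▸ zero_mem _)⟩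
    exact Order.krullDim_le_of_strictMono (fun q => ⟨q, hall q⟩) fun _ _ hlt => hlt
  · haveI : Subsingleton (LocalizedModule p.primeCompl M) := not_nontrivial_iff_subsingleton.1 hp
    refine (min_le_left _ _).trans (WithBot.coe_le_coe.2 ?_)
    exact (CommAlgDim.le_depth_iff 2).2 (CommAlgDim.hasSeqIn_of_smul_top_eq_top (Subsingleton.elim _ _) 2)

theorem hasSk_two_self : LocCoh.HasSk 2 A A :=
  (NormalLib.serre_normal_iff.1 fun p _ =>
    ⟨IsLocalization.isDomain_localization p.primeCompl_le_nonZeroDivisors,
      isIntegrallyClosed_of_isLocalization _ p.primeCompl p.primeCompl_le_nonZeroDivisors⟩).2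

end ReflexLib
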