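import Groth.Agent.ReflexLib.Criterion
import Mathlib.RingTheory.Flat.Basic
import Mathlib.RingTheory.TensorProduct.Finite
import Mathlib.LinearAlgebra.Basis.VectorSpace

/-!
# Constructions with reflexive modules over domains
-/

set_option autoImplicit false
set_option linter.style.haveILetI false
set_option linter.unusedSectionVars false

universe u

open scoped TensorProduct nonZeroDivisors

namespace ReflexLib

variable {A : Type u} [CommRing A] [IsNoetherianRing A] [IsDomain A]
  {M M' M'' : Type u} [AddCommGroup M] [Module A M] [Module.Finite A M] [AddCommGroup M'] [Module A M']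
  [Module.Finite A M'] [AddCommGroup M''] [Module A M'']

/-- A functional extends along an injection up to a nonzero factor. -/
theorem exists_extend_smul (f : M →ₗ[A] M') (hf : Function.Injective f) (φ : M →ₗ[A] A) :
    ∃ c : A, c ≠ 0 ∧ ∃ ψ : M' →ₗ[A] A, ψ ∘ₗ f = c • φ := by
  have : Module.FinitePresentation A M' := Module.finitePresentation_of_finite A M'
  let K := FractionRing A
  let g := LocalizedModule.mkLinearMap A⁰ M
  let g' := LocalizedModule.mkLinearMap A⁰ M'
  let fK := IsLocalizedModule.mapExtendScalars A⁰ g g' K f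
  have hfK : ∀ x, fK (g x) = g' (f x) := fun x => by
    show IsLocalizedModule.map A⁰ g g' f (g x) = _
    rw [IsLocalizedModule.map_apply]
  obtain ⟨r, hr⟩ := LinearMap.exists_leftInverse_of_injective fK
    (LinearMap.ker_eq_bot.2 (IsLocalizedModule.map_injective A⁰ g g' f hf))
  let φK := IsLocalizedModule.mapExtendScalars A⁰ g (Algebra.linearMap A K) K φ
  obtain ⟨ψ, s, hψ⟩ := Module.FinitePresentation.exists_lift_of_isLocalizedModule A⁰
    (Algebra.linearMap A K) (((φK ∘ₗ r).restrictScalars A) ∘ₗ g')
  refine ⟨s, nonZeroDivisors.coe_ne_zero s, ψ, LinearMap.ext fun x => IsFractionRing.injective A K ?_⟩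
  have h1 := LinearMap.congr_fun hψ (f x)
  simp only [LinearMap.coe_comp, Function.comp_apply, LinearMap.coe_restrictScalars, LinearMap.smul_apply,
    Algebra.linearMap_apply] at h1
  have h2 : r (g' (f x)) = g x := by rw [← hfK]; exact LinearMap.congr_fun hr (g x)
  rw [LinearMap.comp_apply, h1, h2]
  show s • IsLocalizedModule.map A⁰ g (Algebra.linearMap A K) φ (g x) = _
  rw [IsLocalizedModule.map_apply, Submonoid.smul_def, LinearMap.smul_apply, smul_eq_mul, map_mul,
    Algebra.smul_def]
  rfl

theorem eval_injective (N : Type u) [AddCommGroup N] [Module A N] [Module.Finite A N] [Module.IsTorsionFree A N] :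
    Function.Injective (Module.Dual.eval A N) := by
  refine (injective_iff_map_eq_zero _).2 fun x hx => ?_
  by_contra hx0
  obtain ⟨c, hc, ψ, hψ⟩ := exists_extend_smul (Submodule.subtype (Submodule.span A {x})) Subtype.val_injective
    (LinearEquiv.toSpanNonzeroSingleton A N x hx0).symm.toLinearMap
  have h1 := LinearMap.congr_fun hψ ⟨x, Submodule.mem_span_singleton_self x⟩
  have h2 : (LinearEquiv.toSpanNonzeroSingleton A N x hx0).symm ⟨x, Submodule.mem_span_singleton_self x⟩ = 1 := by
    rw [LinearEquiv.symm_apply_eq]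
    exact Subtype.ext (one_smul A x).symm
  simp only [LinearMap.coe_comp, Function.comp_apply, Submodule.subtype_apply, LinearMap.smul_apply,
    LinearEquiv.coe_coe, h2, smul_eq_mul, mul_one] at h1
  exact hc (h1.symm.trans (LinearMap.congr_fun hx ψ))

/-- A kernel of a map from a reflexive module to a torsion-free one is reflexive. -/
theorem isReflexive_of_exact [Module.Finite A M''] (f : M →ₗ[A] M') (g : M' →ₗ[A] M'') (hf : Function.Injective f)
    (hfg : Function.Exact f g) [Module.IsReflexive A M'] [Module.IsTorsionFree A M''] :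
    Module.IsReflexive A M := by
  have hsq : ∀ x, f.dualMap.dualMap (Module.Dual.eval A M x) = Module.Dual.eval A M' (f x) := fun x => rfl
  have hinj : Function.Injective f.dualMap.dualMap := (injective_iff_map_eq_zero _).2 fun ξ hξ => by
    ext φ
    obtain ⟨c, hc, ψ, hψ⟩ := exists_extend_smul f hf φ
    have h1 : ξ (ψ ∘ₗ f) = 0 := LinearMap.congr_fun hξ ψ
    rw [hψ, map_smul, smul_eq_zero] at h1
    exact h1.resolve_left hc
  refine ⟨⟨fun x y h => hf ((Module.bijective_dual_eval A M').1 (by rw [← hsq, ← hsq, h])), fun ξ => ?_⟩⟩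
  obtain ⟨y, hy⟩ := (Module.bijective_dual_eval A M').2 (f.dualMap.dualMap ξ)
  have hgy : g y = 0 := eval_injective (A := A) M'' (by
    rw [map_zero]
    refine LinearMap.ext fun χ => ?_
    have h1 := LinearMap.congr_fun hy (χ ∘ₗ g)
    have h2 : (χ ∘ₗ g) ∘ₗ f = 0 := by rw [LinearMap.comp_assoc, hfg.linearMap_comp_eq_zero, LinearMap.comp_zero]
    show χ (g y) = 0
    exact h1.trans (show ξ ((χ ∘ₗ g) ∘ₗ f) = 0 by rw [h2, map_zero]))
  obtain ⟨x, rfl⟩ := (hfg y).1 hgy
  exact ⟨x, hinj ((hsq x).trans hy)⟩

/-- The dual of a finite module is reflexive. -/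
theorem isReflexive_dual : Module.IsReflexive A (Module.Dual A M) := by
  obtain ⟨r, π, hπ⟩ := Module.Finite.exists_fin' A M
  obtain ⟨s, G, hG⟩ := Module.Finite.exists_fin' A (LinearMap.ker π)
  let w : (Fin s → A) →ₗ[A] (Fin r → A) := (LinearMap.ker π).subtype ∘ₗ G
  have hw : Function.Exact w π := fun z => ⟨fun hz => by
    obtain ⟨c, hc⟩ := hG ⟨z, hz⟩
    exact ⟨c, congrArg Subtype.val hc⟩, by rintro ⟨c, rfl⟩; exact (G c).2⟩
  refine isReflexive_of_exact π.dualMap w.dualMap (LinearMap.dualMap_injective_of_surjective hπ) ?_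
  intro φ
  constructor
  · intro hφ
    have hle : LinearMap.ker π ≤ LinearMap.ker φ := fun z hz => by
      obtain ⟨c, rfl⟩ := (hw z).1 hz
      exact LinearMap.congr_fun hφ c
    refine ⟨(LinearMap.ker π).liftQ φ hle ∘ₗ (LinearMap.quotKerEquivOfSurjective π hπ).symm.toLinearMap,
      LinearMap.ext fun v => ?_⟩
    simp only [LinearMap.dualMap_apply, LinearMap.coe_comp, LinearEquiv.coe_coe, Function.comp_apply]
    rw [show π v = LinearMap.quotKerEquivOfSurjective π hπ (Submodule.Quotient.mk v) from rfl,
      LinearEquiv.symm_apply_apply]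
    rfl
  · rintro ⟨ψ, rfl⟩
    exact LinearMap.ext fun c => show ψ (π (w c)) = 0 by rw [hw.apply_apply_eq_zero, map_zero]

theorem isReflexive_hom (N : Type u) [AddCommGroup N] [Module A N] [Module.Finite A N] [Module.IsReflexive A N] :
    Module.IsReflexive A (M →ₗ[A] N) := by
  haveI := isReflexive_dual (A := A) (M := M ⊗[A] Module.Dual A N)
  exact Module.equiv ((TensorProduct.lift.equiv (RingHom.id A) M (Module.Dual A N) A).symm.trans
    (LinearEquiv.congrRight (Module.evalEquiv A N).symm))

/-- Reflexive modules are kernels of maps between free modules with torsion-free cokernel. -/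
theorem exists_free_torsionFree_coker [Module.IsReflexive A M] :
    ∃ (n : ℕ) (f : M →ₗ[A] (Fin n → A)), Function.Injective f ∧
      Module.IsTorsionFree A ((Fin n → A) ⧸ LinearMap.range f) := by
  obtain ⟨n, m, f, h, hf, hex⟩ := DepthTwoLib.exists_presentation (A := A) M
  let e : Module.Dual A (Fin n → A) ≃ₗ[A] (Fin n → A) := (Pi.basisFun A (Fin n)).dualBasis.equivFun
  refine ⟨n, e.toLinearMap ∘ₗ f, e.injective.comp hf, ?_⟩
  let k : ((Fin n → A) ⧸ LinearMap.range (e.toLinearMap ∘ₗ f)) →ₗ[A] Module.Dual A (Fin m → A) :=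
    (LinearMap.range (e.toLinearMap ∘ₗ f)).liftQ (h ∘ₗ e.symm.toLinearMap) (by
      rintro _ ⟨x, rfl⟩
      simpa using (hex _).2 ⟨x, rfl⟩)
  have hk : Function.Injective k := (injective_iff_map_eq_zero k).2 fun q hq => by
    obtain ⟨z, rfl⟩ := Submodule.Quotient.mk_surjective _ q
    obtain ⟨x, hx⟩ := (hex _).1 (show h (e.symm z) = 0 from hq)
    refine (Submodule.Quotient.mk_eq_zero _).2 ⟨x, ?_⟩
    simp [hx]
  exact hk.moduleIsTorsionFree _ fun r q => map_smul k r q

theorem isReflexive_baseChange (B : Type u) [CommRing B] [IsDomain B] [IsNoetherianRing B] [Algebra A B]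
    [Module.Flat A B] [Module.IsReflexive A M] : Module.IsReflexive B (B ⊗[A] M) := by
  obtain ⟨n, m, f, h, hf, hex⟩ := DepthTwoLib.exists_presentation (A := A) M
  refine isReflexive_of_exact (f.baseChange B) (h.baseChange B) ?_ ?_
  · rw [LinearMap.baseChange_eq_ltensor]
    exact Module.Flat.lTensor_preserves_injective_linearMap f hf
  · rw [LinearMap.baseChange_eq_ltensor, LinearMap.baseChange_eq_ltensor]
    exact Module.Flat.lTensor_exact B hex

/-- Every element of the double dual is, up to a nonzero factor, an evaluation. -/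
theorem exists_smul_eq_eval (z : Module.Dual A (Module.Dual A M)) :
    ∃ c : A, c ≠ 0 ∧ ∃ b, Module.Dual.eval A M b = c • z := by
  have h : ReflOn (⊥ : Ideal A).primeCompl M := by
    refine (reflOn_iff _).1 ?_
    haveI : IsDomain (Localization.AtPrime (⊥ : Ideal A)) :=
      IsLocalization.isDomain_localization (Ideal.primeCompl_le_nonZeroDivisors _)
    haveI : Module.Finite (Localization.AtPrime (⊥ : Ideal A)) (LocalizedModule (⊥ : Ideal A).primeCompl M) :=
      Module.Finite.of_isLocalizedModule (⊥ : Ideal A).primeCompl (LocalizedModule.mkLinearMap _ M)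
    haveI : Ring.KrullDimLE 0 (Localization.AtPrime (⊥ : Ideal A)) :=
      .of_isLocalization (⊥ : Ideal A) (show (⊥ : Ideal A) ∈ minimalPrimes A by rw [IsDomain.minimalPrimes_eq_singleton_bot]; rfl) _
    letI := (Ring.KrullDimLE.isField_of_isReduced (R := Localization.AtPrime (⊥ : Ideal A))).toField
    infer_instance
  obtain ⟨u, hu, x, hx⟩ := h.2 z
  exact ⟨u, fun e => hu (e ▸ zero_mem _), x, hx⟩

end ReflexLib
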