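import Groth.Agent.DepthTwoLib.Reflexive
import Mathlib.RingTheory.Localization.BaseChange

/-!
# Reflexive modules and localization
-/

set_option autoImplicit false
set_option linter.style.haveILetI false

universe u

namespace ReflexLib

variable {A : Type u} [CommRing A]

/-- The evaluation map of `M` is bijective after localizing at `S`, tested on elements. -/
def ReflOn (S : Submonoid A) (M : Type u) [AddCommGroup M] [Module A M] : Prop :=
  (∀ x : M, Module.Dual.eval A M x = 0 → ∃ u ∈ S, u • x = 0) ∧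
    ∀ y : Module.Dual A (Module.Dual A M), ∃ u ∈ S, ∃ x, Module.Dual.eval A M x = u • y

section Generic

variable (S : Submonoid A) {M M' N N' : Type u} [AddCommGroup M] [Module A M] [AddCommGroup M'] [Module A M']
  [AddCommGroup N] [Module A N] [AddCommGroup N'] [Module A N'] (g : M →ₗ[A] N) (g' : M' →ₗ[A] N')
  [IsLocalizedModule S g] [IsLocalizedModule S g']

include g g'

/-- Bijectivity of a localized map, tested on elements. -/
theorem bijective_iff_of_comm (t : M →ₗ[A] M') (T : N →ₗ[A] N') (hT : ∀ x, T (g x) = g' (t x)) :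
    Function.Bijective T ↔
      (∀ x, t x = 0 → ∃ u ∈ S, u • x = 0) ∧ ∀ y, ∃ u ∈ S, ∃ x, t x = u • y := by
  constructor
  · refine fun h => ⟨fun x hx => ?_, fun y => ?_⟩
    · obtain ⟨u, hu⟩ := (IsLocalizedModule.eq_zero_iff S g).1 (h.1 (show T (g x) = T 0 by
        rw [hT, hx, map_zero, map_zero]))
      exact ⟨u, u.2, hu⟩
    · obtain ⟨x', hx'⟩ := h.2 (g' y)
      obtain ⟨⟨x, s⟩, hxs⟩ := IsLocalizedModule.surj S g x'
      have h1 : g' (t x) = g' ((s : A) • y) := by
        rw [← hT, ← hxs, Submonoid.smul_def, map_smul, hx', map_smul]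
      obtain ⟨c, hc⟩ := IsLocalizedModule.exists_of_eq (S := S) (f := g') h1
      refine ⟨c * s, S.mul_mem c.2 s.2, (c : A) • x, ?_⟩
      rw [map_smul, mul_smul]
      exact hc
  · rintro ⟨h1, h2⟩
    refine ⟨(injective_iff_map_eq_zero T).2 fun x' hx' => ?_, fun y' => ?_⟩
    · obtain ⟨⟨x, s⟩, hxs⟩ := IsLocalizedModule.surj S g x'
      have h0 : g' (t x) = 0 := by rw [← hT, ← hxs, Submonoid.smul_def, map_smul, hx', smul_zero]
      obtain ⟨c, hc⟩ := (IsLocalizedModule.eq_zero_iff S g').1 h0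
      obtain ⟨u, hu, hux⟩ := h1 ((c : A) • x) (by rw [map_smul]; exact hc)
      have hgx : g x = 0 := (IsLocalizedModule.eq_zero_iff S g).2 ⟨⟨u, hu⟩ * c, by
        rw [Submonoid.smul_def, Submonoid.coe_mul, mul_smul]; exact hux⟩
      exact IsLocalizedModule.smul_injective g s (show s • x' = s • (0 : N) by rw [hxs, hgx, smul_zero])
    · obtain ⟨⟨y, s⟩, hys⟩ := IsLocalizedModule.surj S g' y'
      obtain ⟨u, hu, x, hx⟩ := h2 y
      refine ⟨IsLocalizedModule.mk' g x (⟨u, hu⟩ * s), ?_⟩
      refine IsLocalizedModule.smul_injective g' (⟨u, hu⟩ * s) ?_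
      show (⟨u, hu⟩ * s) • T _ = (⟨u, hu⟩ * s) • y'
      rw [Submonoid.smul_def, ← map_smul, ← Submonoid.smul_def, IsLocalizedModule.mk'_cancel' g, hT, hx,
        Submonoid.smul_def, Submonoid.coe_mul, mul_smul, ← Submonoid.smul_def s y', hys, map_smul]

end Generic

variable [IsNoetherianRing A] {M : Type u} [AddCommGroup M] [Module A M] [Module.Finite A M]

/-- Reflexivity of a localization, in any model. -/
theorem isReflexive_iff_reflOn (S : Submonoid A) (R : Type u) [CommRing R] [Algebra A R] [IsLocalization S R]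
    {N : Type u} [AddCommGroup N] [Module A N] [Module R N] [IsScalarTower A R N] (g : M →ₗ[A] N)
    [IsLocalizedModule S g] : Module.IsReflexive R N ↔ ReflOn S M := by
  have : Module.FinitePresentation A M := Module.finitePresentation_of_finite A M
  have : Module.FinitePresentation A (M →ₗ[A] A) := Module.finitePresentation_of_finite A _
  let gA := Algebra.linearMap A R
  let Φ := IsLocalizedModule.mapExtendScalars S g gA R
  let Ψ := IsLocalizedModule.mapExtendScalars S Φ gA R
  have hΦ : ∀ (φ : M →ₗ[A] A) (z : M), Φ φ (g z) = gA (φ z) := fun φ z => by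
    show IsLocalizedModule.map S g gA φ (g z) = _
    rw [IsLocalizedModule.map_apply]
  have hΨ : ∀ (y : (M →ₗ[A] A) →ₗ[A] A) (φ : M →ₗ[A] A), Ψ y (Φ φ) = gA (y φ) := fun y φ => by
    show IsLocalizedModule.map S Φ gA y (Φ φ) = _
    rw [IsLocalizedModule.map_apply]
  have key : ∀ x : M, Module.Dual.eval R N (g x) = Ψ (Module.Dual.eval A M x) := fun x =>
    LinearMap.ext fun φ' => by
      obtain ⟨⟨φ, s⟩, hφ⟩ := IsLocalizedModule.surj S Φ φ'
      refine IsLocalizedModule.smul_injective gA s ?_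
      show s • (Module.Dual.eval R N (g x)) φ' = s • (Ψ (Module.Dual.eval A M x)) φ'
      rw [Submonoid.smul_def, ← LinearMap.map_smul_of_tower, ← LinearMap.map_smul_of_tower,
        ← Submonoid.smul_def, hφ, hΨ, Module.Dual.eval_apply, hΦ, Module.Dual.eval_apply]
  refine Iff.trans ?_ (bijective_iff_of_comm S g Ψ (Module.Dual.eval A M)
    ((Module.Dual.eval R N).restrictScalars A) key)
  exact ⟨fun h => h.bijective_dual_eval', fun h => ⟨h⟩⟩

theorem isReflexive_iff_reflOn_bot : Module.IsReflexive A M ↔ ReflOn (⊥ : Submonoid A) M := by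
  refine ⟨fun h => ⟨fun x hx => ⟨1, Submonoid.one_mem _, ?_⟩, fun y => ?_⟩, fun h => ⟨⟨?_, fun y => ?_⟩⟩⟩
  · rw [one_smul]
    exact h.bijective_dual_eval'.1 (hx.trans (map_zero _).symm)
  · obtain ⟨x, hx⟩ := h.bijective_dual_eval'.2 y
    exact ⟨1, Submonoid.one_mem _, x, by rw [one_smul]; exact hx⟩
  · refine (injective_iff_map_eq_zero _).2 fun x hx => ?_
    obtain ⟨u, hu, hux⟩ := h.1 x hx
    rwa [Submonoid.mem_bot.1 hu, one_smul] at hux
  · obtain ⟨u, hu, x, hx⟩ := h.2 y
    exact ⟨x, by rw [hx, Submonoid.mem_bot.1 hu, one_smul]⟩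

theorem ReflOn.mono {S T : Submonoid A} (hST : S ≤ T) (h : ReflOn S M) : ReflOn T M :=
  ⟨fun x hx => let ⟨u, hu, h'⟩ := h.1 x hx; ⟨u, hST hu, h'⟩,
    fun y => let ⟨u, hu, h'⟩ := h.2 y; ⟨u, hST hu, h'⟩⟩

/-- Reflexivity is local at the maximal ideals. -/
theorem isReflexive_of_reflOn_maximal
    (h : ∀ (m : Ideal A) [m.IsMaximal], ReflOn m.primeCompl M) : Module.IsReflexive A M := by
  refine ⟨(injective_iff_map_eq_zero _).2 fun x hx => ?_, fun y => ?_⟩
  · by_contra hx0
    let I : Ideal A := LinearMap.ker (LinearMap.toSpanSingleton A M x)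
    obtain ⟨m, hm, hIm⟩ := Ideal.exists_le_maximal I fun hI => hx0 (by
      have h1 : (1 : A) ∈ I := hI ▸ trivial
      simpa [I] using h1)
    obtain ⟨u, hu, hux⟩ := (h m).1 x hx
    exact hu (hIm (show u ∈ I by simpa [I] using hux))
  · let I : Ideal A := (LinearMap.range (Module.Dual.eval A M)).comap (LinearMap.toSpanSingleton A _ y)
    by_contra hy
    obtain ⟨m, hm, hIm⟩ := Ideal.exists_le_maximal I fun hI => hy (by
      have h1 : (1 : A) ∈ I := hI ▸ trivial
      simpa [I] using h1)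
    obtain ⟨u, hu, x, hx⟩ := (h m).2 y
    exact hu (hIm ⟨x, by simpa using hx⟩)

end ReflexLib
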