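import Groth.Agent.ReflexLib.Basic
import Groth.Agent.CommAlgDim.Depth
import Mathlib.RingTheory.DedekindDomain.PID
import Mathlib.LinearAlgebra.FreeModule.PID
import Mathlib.RingTheory.Ideal.Height

/-!
# Depth criterion for reflexivity
-/

set_option autoImplicit false
set_option linter.style.haveILetI false
set_option linter.unusedSectionVars false

universe u

open IsLocalRing

namespace ReflexLib

variable {A : Type u} [CommRing A] [IsNoetherianRing A] {M : Type u} [AddCommGroup M] [Module A M] [Module.Finite A M]

section Loc

variable (p : Ideal A) [p.IsPrime] (R : Type u) [CommRing R] [Algebra A R] [IsLocalization.AtPrime R p]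
  {N : Type u} [AddCommGroup N] [Module A N] [Module R N] [IsScalarTower A R N] (g : M →ₗ[A] N)
  [IsLocalizedModule p.primeCompl g]

include p g

/-- A further localization, in terms of the original module. -/
theorem isReflexive_localized_iff (P : Ideal R) [P.IsPrime] :
    Module.IsReflexive (Localization.AtPrime P) (LocalizedModule P.primeCompl N) ↔
      ReflOn (P.comap (algebraMap A R)).primeCompl M := by
  haveI : IsLocalization.AtPrime (Localization.AtPrime P) (P.comap (algebraMap A R)) :=
    IsLocalization.isLocalization_isLocalization_atPrime_isLocalization p.primeCompl (Localization.AtPrime P) P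
  haveI : IsScalarTower A (Localization.AtPrime P) (LocalizedModule P.primeCompl N) :=
    IsScalarTower.of_algebraMap_smul fun a x => by
      rw [IsScalarTower.algebraMap_apply A R (Localization.AtPrime P), algebraMap_smul, algebraMap_smul]
  haveI : IsLocalizedModule (P.comap (algebraMap A R)).primeCompl
      (((LocalizedModule.mkLinearMap P.primeCompl N).restrictScalars A).comp g) :=
    (isLocalizedModule_iff_isBaseChange _ (Localization.AtPrime P) _).2
      (IsBaseChange.comp (IsLocalizedModule.isBaseChange p.primeCompl R g)
        (IsLocalizedModule.isBaseChange P.primeCompl (Localization.AtPrime P)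
          (LocalizedModule.mkLinearMap P.primeCompl N)))
  exact isReflexive_iff_reflOn _ (Localization.AtPrime P)
    (((LocalizedModule.mkLinearMap P.primeCompl N).restrictScalars A).comp g)

end Loc

/-- A reflexive module has reflexive localizations. -/
theorem isReflexive_localized [Module.IsReflexive A M] (S : Submonoid A) :
    Module.IsReflexive (Localization S) (LocalizedModule S M) :=
  (isReflexive_iff_reflOn S (Localization S) (LocalizedModule.mkLinearMap S M)).2
    ((isReflexive_iff_reflOn_bot.1 inferInstance).mono bot_le)

theorem reflOn_iff (p : Ideal A) [p.IsPrime] :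
    Module.IsReflexive (Localization.AtPrime p) (LocalizedModule p.primeCompl M) ↔ ReflOn p.primeCompl M :=
  isReflexive_iff_reflOn _ _ (LocalizedModule.mkLinearMap p.primeCompl M)

variable [IsDomain A]

/-- Reflexive if at every prime reflexive or of depth two. -/
theorem isReflexive_of_forall_or_depth
    (h : ∀ (p : Ideal A) [p.IsPrime], ReflOn p.primeCompl M ∨
      2 ≤ LocCoh.depth (Localization.AtPrime p) (LocalizedModule p.primeCompl M)) : Module.IsReflexive A M := by
  suffices key : ∀ (n : ℕ) (p : Ideal A) [p.IsPrime], p.height < n → ReflOn p.primeCompl M by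
    refine isReflexive_of_reflOn_maximal fun m _ => ?_
    obtain ⟨k, hk⟩ := ENat.ne_top_iff_exists.1 (Ideal.height_ne_top (Ideal.IsPrime.ne_top (I := m) inferInstance))
    exact key (k + 1) m (by rw [← hk]; exact_mod_cast k.lt_succ_self)
  intro n
  induction n with
  | zero => intro p _ hp; simp at hp
  | succ n ih =>
    intro p _ hp
    refine (h p).elim id fun hd => ?_
    haveI : IsNoetherianRing (Localization.AtPrime p) := IsLocalization.isNoetherianRing p.primeCompl _ ‹_›
    haveI : IsDomain (Localization.AtPrime p) :=
      IsLocalization.isDomain_localization p.primeCompl_le_nonZeroDivisors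
    haveI : Module.Finite (Localization.AtPrime p) (LocalizedModule p.primeCompl M) :=
      Module.Finite.of_isLocalizedModule p.primeCompl (LocalizedModule.mkLinearMap p.primeCompl M)
    refine (reflOn_iff p).1 ?_
    by_cases hm : maximalIdeal (Localization.AtPrime p) = ⊥
    · letI := (isField_iff_maximalIdeal_eq.2 hm).toField
      infer_instance
    refine DepthTwoLib.isReflexive_of_d2 (I := maximalIdeal (Localization.AtPrime p)) _ (fun x hx => ?_)
      (DepthTwoLib.two_le_iff.1 hd) fun P hP => ?_
    · obtain ⟨j, hj, hj0⟩ := Submodule.exists_mem_ne_zero_of_ne_bot hm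
      exact (mul_eq_zero.1 (show j * x = 0 from hx j hj)).resolve_left hj0
    refine (isReflexive_localized_iff p _ (LocalizedModule.mkLinearMap p.primeCompl M) P.asIdeal).2 (ih _ ?_)
    have hlt : P.asIdeal.comap (algebraMap A (Localization.AtPrime p)) < p := by
      conv_rhs => rw [← IsLocalization.AtPrime.comap_maximalIdeal (Localization.AtPrime p) p]
      refine lt_of_le_not_ge (Ideal.comap_mono (le_maximalIdeal P.isPrime.ne_top)) fun hge => hP fun x hx => ?_
      rw [← IsLocalization.map_comap p.primeCompl (Localization.AtPrime p) P.asIdeal]
      rw [← IsLocalization.map_comap p.primeCompl (Localization.AtPrime p) (maximalIdeal _)] at hx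
      exact Ideal.map_mono hge hx
    have h1 := Ideal.height_strict_mono_of_isPrime hlt
    exact lt_of_lt_of_le h1 (ENat.lt_add_one_iff (by simp) |>.1 (by simpa using hp))

/-- A torsion-free finite module over a local normal domain of dimension at most one is reflexive. -/
theorem isReflexive_of_dim_le_one {R : Type u} [CommRing R] [IsLocalRing R] [IsNoetherianRing R] [IsDomain R]
    [IsIntegrallyClosed R] [Ring.KrullDimLE 1 R] (N : Type u) [AddCommGroup N] [Module R N] [Module.Finite R N]
    [Module.IsTorsionFree R N] : Module.IsReflexive R N := by
  haveI : Ring.DimensionLEOne R := ⟨fun hp hpp => Ring.krullDimLE_one_iff_of_noZeroDivisors.1 ‹_› _ hp hpp⟩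
  haveI : IsDedekindDomain R := { }
  haveI : IsPrincipalIdealRing R := IsPrincipalIdealRing.of_finite_maximals (by
    refine Set.Finite.subset (Set.finite_singleton (maximalIdeal R)) fun I hI => ?_
    exact eq_maximalIdeal hI)
  infer_instance

end ReflexLib
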